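import Cfsg.Agent.Lib.Presented.VCert

/-! Running a vectorised certificate in pieces, with the state after each piece given as numbers. -/
set_option autoImplicit false

namespace CfsgLib.JThreeUnique.MainCert

open CfsgLib.Presented

/-- Run the steps and compare the state with `e`. -/
noncomputable def runTo (C : VCert) : List VStep → List ℕ → List ℕ → Bool
  | [], g, e => listEq g e
  | s :: ss, g, e => VCert.strictL (C.stepRun g s) fun g' => runTo C ss g' e

theorem runAll_of_runTo {C : VCert} {e : List ℕ} (b : List VStep) :
    ∀ (a : List VStep) (g : List ℕ), runTo C a g e = true → C.runAll (a ++ b) g = C.runAll b e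
  | [], g, h => by rw [runTo] at h; rw [List.nil_append, listEq_eq h]
  | s :: a, g, h => by
    rw [runTo, VCert.strictL_eq] at h
    rw [List.cons_append, VCert.runAll, VCert.strictL_eq]
    exact runAll_of_runTo b a _ h

theorem relsOK_cons {R : Rep} {w : List ℕ} {ws : List (List ℕ)}
    (h : R.relsOK [w] = true) (hs : R.relsOK ws = true) : R.relsOK (w :: ws) = true := by
  simp only [Rep.relsOK, List.all_cons, List.all_nil, Bool.and_true, Bool.and_eq_true] at h hs ⊢
  exact ⟨h, hs⟩

theorem relsOK_nil {R : Rep} : R.relsOK [] = true := rfl

end CfsgLib.JThreeUnique.MainCert
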