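import Cfsg.Agent.Lib.JThreeUnique.MainCert.Table
import Cfsg.Agent.Lib.JThreeUnique.MainCert.Run

/-! Generated: the relators act trivially on the points. -/
set_option autoImplicit false
set_option maxRecDepth 100000
set_option Elab.async false

namespace CfsgLib.JThreeUnique.MainCert

open CfsgLib.Presented

theorem rel0 : rep.relsOK [[4, 4, 4]] = true := by decide +kernel

theorem rel1 : rep.relsOK [[6, 6, 6]] = true := by decide +kernel

theorem rel2 : rep.relsOK [[0, 1, 0, 1]] = true := by decide +kernel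

theorem rel3 : rep.relsOK [[0, 2, 0, 2]] = true := by decide +kernel

theorem rel4 : rep.relsOK [[0, 4, 0, 5]] = true := by decide +kernel

theorem rel5 : rep.relsOK [[0, 3, 0, 3]] = true := by decide +kernel

theorem rel6 : rep.relsOK [[1, 2, 1, 2]] = true := by decide +kernel

theorem rel7 : rep.relsOK [[1, 4, 1, 5]] = true := by decide +kernel

theorem rel8 : rep.relsOK [[4, 2, 4, 2, 4, 2]] = true := by decide +kernel

theorem rel9 : rep.relsOK [[6, 2, 7, 2]] = true := by decide +kernel

theorem rel10 : rep.relsOK [[6, 4, 7, 5]] = true := by decide +kernel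

theorem rel11 : rep.relsOK [[6, 0, 7, 1]] = true := by decide +kernel

theorem rel12 : rep.relsOK [[6, 1, 7, 1, 0]] = true := by decide +kernel

theorem rel13 : rep.relsOK [[3, 4, 3, 4]] = true := by decide +kernel

theorem rel14 : rep.relsOK [[3, 2, 3, 2, 3, 2]] = true := by decide +kernel

theorem rel15 : rep.relsOK [[6, 0, 4, 3, 1, 3, 6, 0, 4, 3, 1, 3]] = true := by decide +kernel

theorem rel16 : rep.relsOK [[3, 6, 3, 7, 0, 3, 7, 3, 6, 3, 6, 3, 0, 6, 3, 7, 3, 7]] = true := by decide +kernel

theorem rels_ok : rep.relsOK relWords = true :=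
  relsOK_cons rel0 (relsOK_cons rel1 (relsOK_cons rel2 (relsOK_cons rel3 (relsOK_cons rel4 (relsOK_cons rel5 (relsOK_cons rel6 (relsOK_cons rel7 (relsOK_cons rel8 (relsOK_cons rel9 (relsOK_cons rel10 (relsOK_cons rel11 (relsOK_cons rel12 (relsOK_cons rel13 (relsOK_cons rel14 (relsOK_cons rel15 (relsOK_cons rel16 (relsOK_nil)))))))))))))))))

end CfsgLib.JThreeUnique.MainCert
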