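import Cfsg.Agent.Lib.JThreeUnique.MainCert.Table

/-! Generated: the letters act as permutations and the tree is a tree. -/
set_option autoImplicit false
set_option maxRecDepth 100000
set_option Elab.async false

namespace CfsgLib.JThreeUnique.MainCert

open CfsgLib.Presented

theorem rep_valid : rep.valid = true := by decide +kernel

theorem subs_valid : (cert.subs.all fun w => w.all (fun y => Nat.blt y cert.R.A.eps) && (Vec.applyNet (cert.R.netW w) 1).testBit 0) = true := by decide +kernel

theorem tree_valid : ((List.range cert.R.A.eps).all fun x =>
    Nat.beq (Nat.land (cert.tree.getD x 0) (Vec.ones cert.R.N)) (cert.tree.getD x 0) &&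
    Nat.beq (Nat.land (cert.tree.getD x 0) (Vec.below cert.R.m (cert.R.net (cert.R.A.invl x)))) (cert.tree.getD x 0) &&
    (List.range cert.R.A.eps).all fun y => Nat.beq x y || Nat.beq (Nat.land (cert.tree.getD x 0) (cert.tree.getD y 0)) 0) = true := by decide +kernel

theorem cover_valid : Nat.beq ((List.range cert.R.A.eps).foldl (fun a x => Nat.lor a (cert.tree.getD x 0)) 1) (Vec.ones cert.R.N) = true := by decide +kernel

end CfsgLib.JThreeUnique.MainCert
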