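import Cfsg.Agent.Lib.JThreeUnique.MainCert.State0
import Cfsg.Agent.Lib.JThreeUnique.MainCert.State1
import Cfsg.Agent.Lib.JThreeUnique.MainCert.State2
import Cfsg.Agent.Lib.JThreeUnique.MainCert.State3
import Cfsg.Agent.Lib.JThreeUnique.MainCert.State4
import Cfsg.Agent.Lib.JThreeUnique.MainCert.State5
import Cfsg.Agent.Lib.JThreeUnique.MainCert.State6
import Cfsg.Agent.Lib.JThreeUnique.MainCert.State7
import Cfsg.Agent.Lib.JThreeUnique.MainCert.State8
import Cfsg.Agent.Lib.JThreeUnique.MainCert.State9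
import Cfsg.Agent.Lib.JThreeUnique.MainCert.State10
import Cfsg.Agent.Lib.JThreeUnique.MainCert.State11
import Cfsg.Agent.Lib.JThreeUnique.MainCert.State12
import Cfsg.Agent.Lib.JThreeUnique.MainCert.State13
import Cfsg.Agent.Lib.JThreeUnique.MainCert.State14
import Cfsg.Agent.Lib.JThreeUnique.MainCert.State15
import Cfsg.Agent.Lib.JThreeUnique.MainCert.State16
import Cfsg.Agent.Lib.JThreeUnique.MainCert.State17
import Cfsg.Agent.Lib.JThreeUnique.MainCert.State18
import Cfsg.Agent.Lib.JThreeUnique.MainCert.State19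
import Cfsg.Agent.Lib.JThreeUnique.MainCert.State20
import Cfsg.Agent.Lib.JThreeUnique.MainCert.State21
import Cfsg.Agent.Lib.JThreeUnique.MainCert.Rels
import Cfsg.Agent.Lib.JThreeUnique.MainCert.Valid
import Cfsg.Agent.Lib.JThreeUnique.MainCert.Run

/-! Generated: the certificate is correct. -/
set_option autoImplicit false
set_option maxRecDepth 100000
set_option Elab.async false

namespace CfsgLib.JThreeUnique.MainCert

open CfsgLib.Presented

theorem cert_ok : cert.ok = true := by
  have hv : cert.valid = true := by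
    have hN : Nat.blt 0 cert.R.N = true := by decide +kernel
    simp only [VCert.valid, Bool.and_eq_true]
    exact ⟨⟨⟨⟨⟨rep_valid, hN⟩, rels_ok⟩, subs_valid⟩, tree_valid⟩, cover_valid⟩
  rw [VCert.ok, hv, Bool.true_and, VCert.strictL_eq]
  show cert.runAll (steps0 ++ (steps1 ++ (steps2 ++ (steps3 ++ (steps4 ++ (steps5 ++ (steps6 ++ (steps7 ++ (steps8 ++ (steps9 ++ (steps10 ++ (steps11 ++ (steps12 ++ (steps13 ++ (steps14 ++ (steps15 ++ (steps16 ++ (steps17 ++ (steps18 ++ (steps19 ++ (steps20 ++ (steps21)))))))))))))))))))))) cert.init = true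
  rw [runAll_of_runTo _ _ _ run0, runAll_of_runTo _ _ _ run1, runAll_of_runTo _ _ _ run2, runAll_of_runTo _ _ _ run3, runAll_of_runTo _ _ _ run4, runAll_of_runTo _ _ _ run5, runAll_of_runTo _ _ _ run6, runAll_of_runTo _ _ _ run7, runAll_of_runTo _ _ _ run8, runAll_of_runTo _ _ _ run9, runAll_of_runTo _ _ _ run10, runAll_of_runTo _ _ _ run11, runAll_of_runTo _ _ _ run12, runAll_of_runTo _ _ _ run13, runAll_of_runTo _ _ _ run14, runAll_of_runTo _ _ _ run15, runAll_of_runTo _ _ _ run16, runAll_of_runTo _ _ _ run17, runAll_of_runTo _ _ _ run18, runAll_of_runTo _ _ _ run19, runAll_of_runTo _ _ _ run20]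
  exact run21

end CfsgLib.JThreeUnique.MainCert
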