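import Cfsg.Agent.Lib.JThreeUnique.MainCert.Part0
import Cfsg.Agent.Lib.JThreeUnique.MainCert.Part1
import Cfsg.Agent.Lib.JThreeUnique.MainCert.Part2
import Cfsg.Agent.Lib.JThreeUnique.MainCert.Part3
import Cfsg.Agent.Lib.JThreeUnique.MainCert.Part4
import Cfsg.Agent.Lib.JThreeUnique.MainCert.Part5
import Cfsg.Agent.Lib.JThreeUnique.MainCert.Part6
import Cfsg.Agent.Lib.JThreeUnique.MainCert.Part7
import Cfsg.Agent.Lib.JThreeUnique.MainCert.Part8
import Cfsg.Agent.Lib.JThreeUnique.MainCert.Part9
import Cfsg.Agent.Lib.JThreeUnique.MainCert.Part10
import Cfsg.Agent.Lib.JThreeUnique.MainCert.Part11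

/-! Generated: the seed word fixes the base point. -/
set_option autoImplicit false
set_option maxRecDepth 100000
set_option Elab.async false

namespace CfsgLib.JThreeUnique.MainCert

open CfsgLib.Presented

theorem facts_ok : enum.OKOn 0 69476 :=
  (((((((((((part0).append part1).append part2).append part3).append part4).append part5).append part6).append part7).append part8).append part9).append part10).append part11

theorem seed_loop {G : Type*} [Group G] {X : Type*} [MulAction G X] {ev : ℕ → G} {base : X}
    (hI : enum.Interp ev base) : evW ev seedWord • base = base := by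
  obtain ⟨s', hs⟩ := Option.isSome_iff_exists.1
    (show (enum.chkPath 69476 0 0 0x3c0001d0000dc000d10008380002700088400251001e8c00d5900356c21ec603ebb806ed4002d80001d2000740001a2000468000200000780001c00003800017 seedWord.reverse).isSome = true by decide +kernel)
  simpa using Enum.loop enum_valid hI facts_ok hs

end CfsgLib.JThreeUnique.MainCert
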